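import Mathlib

/-!
# Power formulas in groups of class two and three (lead)

* `mul_pow_class2` : `(u * v) ^ m = u ^ m * v ^ m * c ^ (m.choose 2)` if `v * u = c * u * v`, `c` commuting
  with `u` and `v`.
* `mul_pow_class3` : the analogous formula in class three.
-/

set_option autoImplicit false

namespace Cfsg.Agent.Lib.Lead

variable {G : Type*} [Group G]

lemma central_move {z : G} (hz : ∀ g, Commute z g) (a b : G) : a * (z * b) = z * (a * b) := by
  rw [← mul_assoc, ← (hz a).eq, mul_assoc]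

/-- `v^m * u = c^m * u * v^m` when `v * u = c * u * v` and `c` commutes with `v`. -/
lemma pow_mul_class2 {u v c : G} (h : v * u = c * u * v) (hcv : Commute c v) (m : ℕ) :
    v ^ m * u = c ^ m * u * v ^ m := by
  induction m with
  | zero => simp
  | succ m ih =>
    have h1 : v ^ m * c = c * v ^ m := ((hcv.pow_right m).eq).symm
    calc v ^ (m + 1) * u = v ^ m * (v * u) := by rw [pow_succ, mul_assoc]
      _ = v ^ m * (c * u * v) := by rw [h]
      _ = (v ^ m * c) * u * v := by simp only [mul_assoc]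
      _ = c * (v ^ m * u) * v := by rw [h1]; simp only [mul_assoc]
      _ = c * (c ^ m * u * v ^ m) * v := by rw [ih]
      _ = c ^ (m + 1) * u * v ^ (m + 1) := by rw [pow_succ' c, pow_succ v]; simp only [mul_assoc]

/-- The class-two power formula. -/
lemma mul_pow_class2 {u v c : G} (h : v * u = c * u * v) (hcu : Commute c u) (hcv : Commute c v)
    (m : ℕ) : (u * v) ^ m = u ^ m * v ^ m * c ^ (m.choose 2) := by
  induction m with
  | zero => simp
  | succ m ih =>
    have h1 := pow_mul_class2 h hcv m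
    have e : (m + 1).choose 2 = m + m.choose 2 := by
      rw [Nat.choose_succ_succ, Nat.choose_one_right]
    have c1 : Commute (c ^ (m.choose 2)) u := hcu.pow_left _
    have c2 : Commute (c ^ (m.choose 2)) v := hcv.pow_left _
    have c3 : Commute (c ^ m) u := hcu.pow_left _
    have c4 : Commute (c ^ m) (u ^ m) := (hcu.pow_left _).pow_right _
    have c5 : Commute (c ^ m) (v ^ m) := (hcv.pow_left _).pow_right _
    have c6 : Commute (c ^ m) v := hcv.pow_left _
    calc (u * v) ^ (m + 1) = (u * v) ^ m * (u * v) := pow_succ _ _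
      _ = u ^ m * v ^ m * c ^ (m.choose 2) * (u * v) := by rw [ih]
      _ = u ^ m * (v ^ m * u) * v * c ^ (m.choose 2) := by
          rw [mul_assoc (u ^ m * v ^ m), ← mul_assoc (c ^ (m.choose 2)) u v, c1.eq,
            mul_assoc u, c2.eq]
          simp only [mul_assoc]
      _ = u ^ m * (c ^ m * u * v ^ m) * v * c ^ (m.choose 2) := by rw [h1]
      _ = u ^ (m + 1) * v ^ (m + 1) * (c ^ m * c ^ (m.choose 2)) := by
          rw [pow_succ u, pow_succ v, c3.eq]
          have : u ^ m * (u * c ^ m * v ^ m) * v = u ^ m * u * (v ^ m * v) * c ^ m := by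
            rw [mul_assoc u, c5.eq]
            simp only [mul_assoc]
            rw [c6.eq]
          rw [this]; simp only [mul_assoc]
      _ = u ^ (m + 1) * v ^ (m + 1) * c ^ ((m + 1).choose 2) := by rw [e, pow_add c]

section class3

variable {x y c d e : G}

/-- `y * c^a = e^a * c^a * y`. -/
lemma class3_F1 (h3 : y * c = e * c * y) (he : ∀ g, Commute e g) (a : ℕ) :
    y * c ^ a = e ^ a * c ^ a * y := by
  have hs : SemiconjBy y c (e * c) := h3
  have := (hs.pow_right a).eq
  rw [this, (he c).mul_pow]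

/-- `y * x^n = d^(n.choose 2) * c^n * x^n * y`. -/
lemma class3_F2 (h1 : y * x = c * x * y) (h2 : x * c = d * c * x) (hd : ∀ g, Commute d g) (n : ℕ) :
    y * x ^ n = d ^ (n.choose 2) * (c ^ n * x ^ n * y) := by
  have hs : SemiconjBy y x (c * x) := h1
  have := (hs.pow_right n).eq
  rw [this, mul_pow_class2 h2 (hd c) (hd x) n]
  have hz : ∀ g, Commute (d ^ (n.choose 2)) g := fun g => (hd g).pow_left _
  rw [mul_assoc (c ^ n * x ^ n), (hz y).eq, ← mul_assoc, ← (hz (c ^ n * x ^ n * y)).eq]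

/-- `x * c^m = d^m * c^m * x`. -/
lemma class3_F3 (h2 : x * c = d * c * x) (hd : ∀ g, Commute d g) (m : ℕ) :
    x * c ^ m = d ^ m * c ^ m * x := by
  have hs : SemiconjBy x c (d * c) := h2
  have := (hs.pow_right m).eq
  rw [this, (hd c).mul_pow]

lemma class3_step (h1 : y * x = c * x * y) (h2 : x * c = d * c * x) (h3 : y * c = e * c * y)
    (hd : ∀ g, Commute d g) (he : ∀ g, Commute e g) (a n : ℕ) :
    x * y * (c ^ a * x ^ n * y ^ n) =
      e ^ a * d ^ (n.choose 2 + (a + n)) * (c ^ (a + n) * x ^ (n + 1) * y ^ (n + 1)) := by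
  have hE : ∀ g, Commute (e ^ a) g := fun g => (he g).pow_left _
  have hD : ∀ g, Commute (d ^ (n.choose 2)) g := fun g => (hd g).pow_left _
  have hD' : ∀ g, Commute (d ^ (a + n)) g := fun g => (hd g).pow_left _
  calc x * y * (c ^ a * x ^ n * y ^ n)
      = x * ((y * c ^ a) * x ^ n * y ^ n) := by simp only [mul_assoc]
    _ = x * ((e ^ a * c ^ a * y) * x ^ n * y ^ n) := by rw [class3_F1 h3 he]
    _ = e ^ a * (x * (c ^ a * (y * x ^ n) * y ^ n)) := by
        simp only [mul_assoc]
        rw [central_move hE]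
    _ = e ^ a * (x * (c ^ a * (d ^ (n.choose 2) * (c ^ n * x ^ n * y)) * y ^ n)) := by
        rw [class3_F2 h1 h2 hd]
    _ = e ^ a * (d ^ (n.choose 2) * ((x * c ^ (a + n)) * x ^ n * y ^ (n + 1))) := by
        simp only [mul_assoc]
        rw [central_move hD, central_move hD, pow_add c, pow_succ' y]
        simp only [mul_assoc]
    _ = e ^ a * (d ^ (n.choose 2) * ((d ^ (a + n) * c ^ (a + n) * x) * x ^ n * y ^ (n + 1))) := by
        rw [class3_F3 h2 hd]
    _ = e ^ a * d ^ (n.choose 2 + (a + n)) * (c ^ (a + n) * x ^ (n + 1) * y ^ (n + 1)) := by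
        rw [pow_add d (n.choose 2) (a + n), pow_succ' x]
        simp only [mul_assoc]

/-- The class-three power formula. -/
theorem mul_pow_class3 (h1 : y * x = c * x * y) (h2 : x * c = d * c * x) (h3 : y * c = e * c * y)
    (hd : ∀ g, Commute d g) (he : ∀ g, Commute e g) (n : ℕ) :
    (x * y) ^ n = e ^ (n.choose 3) * d ^ (∑ k ∈ Finset.range n, k ^ 2) *
      (c ^ (n.choose 2) * x ^ n * y ^ n) := by
  induction n with
  | zero => simp
  | succ n ih =>
    have hZ : ∀ g, Commute (e ^ (n.choose 3) * d ^ (∑ k ∈ Finset.range n, k ^ 2)) g :=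
      fun g => ((he g).pow_left _).mul_left ((hd g).pow_left _)
    have e2 : (n + 1).choose 2 = n.choose 2 + n := by
      rw [Nat.choose_succ_succ, Nat.choose_one_right, add_comm]
    have e3 : (n + 1).choose 3 = n.choose 3 + n.choose 2 := by
      rw [Nat.choose_succ_succ, add_comm]
    have e4 : n.choose 2 + (n.choose 2 + n) = n ^ 2 := by
      have := Nat.choose_two_right n
      have h2' : n.choose 2 * 2 = n * (n - 1) := by
        rw [Nat.choose_two_right]
        exact Nat.div_mul_cancel (Nat.even_mul_pred_self n).two_dvd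
      rcases n with _ | k
      · simp
      · simp only [Nat.add_sub_cancel] at h2'
        nlinarith
    rw [pow_succ', ih, central_move hZ, class3_step h1 h2 h3 hd he, e2, e3,
      Finset.sum_range_succ, ← e4, pow_add e, pow_add d]
    have hE : ∀ g, Commute (e ^ (n.choose 2)) g := fun g => (he g).pow_left _
    have hE3 : ∀ g, Commute (e ^ (n.choose 3)) g := fun g => (he g).pow_left _
    have hDs : ∀ g, Commute (d ^ (∑ k ∈ Finset.range n, k ^ 2)) g := fun g => (hd g).pow_left _
    simp only [mul_assoc]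
    congr 1
    rw [central_move hE]
    congr 1
    simp only [← mul_assoc, ← pow_add]

end class3

/-- `6 * ∑_{k<n+1} k^2 = n (n+1) (2n+1)`. -/
lemma six_mul_sum_sq (n : ℕ) :
    6 * ∑ k ∈ Finset.range (n + 1), k ^ 2 = n * (n + 1) * (2 * n + 1) := by
  induction n with
  | zero => simp
  | succ n ih =>
    rw [Finset.sum_range_succ, mul_add, ih]
    ring

lemma prime_dvd_sum_sq {p : ℕ} (hp : p.Prime) (h3 : 3 < p) :
    p ∣ ∑ k ∈ Finset.range p, k ^ 2 := by
  obtain ⟨n, rfl⟩ : ∃ n, p = n + 1 := ⟨p - 1, by have := hp.pos; omega⟩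
  have h6 := six_mul_sum_sq n
  have hdvd : (n + 1) ∣ 6 * ∑ k ∈ Finset.range (n + 1), k ^ 2 := by
    rw [h6]
    exact Dvd.dvd.mul_right (Dvd.intro_left n rfl) _
  have hcop : Nat.Coprime (n + 1) 6 := by
    rw [Nat.Prime.coprime_iff_not_dvd hp]
    intro h
    have : (n + 1) ∣ 2 * 3 := h
    rcases (Nat.Prime.dvd_mul hp).mp this with h' | h'
    · have := Nat.le_of_dvd (by norm_num) h'; omega
    · have := Nat.le_of_dvd (by norm_num) h'; omega
  exact hcop.dvd_of_dvd_mul_left hdvd

open scoped commutatorElement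

/-- In a group of class at most three, the basic commutators of `x`, `y` satisfy the hypotheses of
`mul_pow_class3`. -/
lemma class3_setup {R : Type*} [Group R]
    (hcl : ⁅⁅commutator R, (⊤ : Subgroup R)⁆, (⊤ : Subgroup R)⁆ = ⊥) (x y : R) :
    y * x = ⁅y, x⁆ * x * y ∧ x * ⁅y, x⁆ = ⁅x, ⁅y, x⁆⁆ * ⁅y, x⁆ * x ∧
      y * ⁅y, x⁆ = ⁅y, ⁅y, x⁆⁆ * ⁅y, x⁆ * y ∧ (∀ g, Commute ⁅x, ⁅y, x⁆⁆ g) ∧
      (∀ g, Commute ⁅y, ⁅y, x⁆⁆ g) ∧ ⁅y, x⁆ ∈ commutator R ∧ ⁅x, ⁅y, x⁆⁆ ∈ commutator R ∧
      ⁅y, ⁅y, x⁆⁆ ∈ commutator R := by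
  have hc : ⁅y, x⁆ ∈ commutator R := by
    rw [commutator_def]
    exact Subgroup.commutator_mem_commutator (Subgroup.mem_top y) (Subgroup.mem_top x)
  have hcen : ⁅commutator R, (⊤ : Subgroup R)⁆ ≤ Subgroup.center R := by
    have := Subgroup.commutator_eq_bot_iff_le_centralizer.mp hcl
    rwa [Subgroup.coe_top, Subgroup.centralizer_univ] at this
  have hmem : ∀ z : R, ⁅z, ⁅y, x⁆⁆ ∈ ⁅commutator R, (⊤ : Subgroup R)⁆ := by
    intro z
    rw [Subgroup.commutator_comm]
    exact Subgroup.commutator_mem_commutator (Subgroup.mem_top z) hc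
  have hcomm : ∀ z g : R, Commute ⁅z, ⁅y, x⁆⁆ g := by
    intro z g
    exact (Subgroup.mem_center_iff.mp (hcen (hmem z)) g).symm
  have hmem' : ∀ z : R, ⁅z, ⁅y, x⁆⁆ ∈ commutator R := by
    intro z
    rw [commutator_def]
    exact Subgroup.commutator_mem_commutator (Subgroup.mem_top z) (Subgroup.mem_top _)
  refine ⟨?_, ?_, ?_, hcomm x, hcomm y, hc, hmem' x, hmem' y⟩
  · simp only [commutatorElement_def]; group
  · simp only [commutatorElement_def]; group
  · simp only [commutatorElement_def]; group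

/-- In a group of class at most three and a prime `p > 3`, the product of two elements of order
dividing `p` has order dividing `p`. -/
lemma mul_pow_eq_one_class3 {R : Type*} [Group R] {p : ℕ} (hp : p.Prime) (h3 : 3 < p)
    (hcl : ⁅⁅commutator R, (⊤ : Subgroup R)⁆, (⊤ : Subgroup R)⁆ = ⊥) {x y : R}
    (hx : x ^ p = 1) (hy : y ^ p = 1) : (x * y) ^ p = 1 := by
  obtain ⟨h1, h2, h3', hd, he, -, -, -⟩ := class3_setup hcl x y
  set c := ⁅y, x⁆
  set d := ⁅x, c⁆
  set e := ⁅y, c⁆
  have hp2 : p ∣ p.choose 2 := hp.dvd_choose_self (by norm_num) (by omega)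
  have hp3 : p ∣ p.choose 3 := hp.dvd_choose_self (by norm_num) h3
  have hpS : p ∣ ∑ k ∈ Finset.range p, k ^ 2 := prime_dvd_sum_sq hp h3
  -- `c^p * d^(choose p 2) = 1`
  have hF2 := class3_F2 h1 h2 hd p
  rw [hx] at hF2
  have hcd : d ^ (p.choose 2) * c ^ p = 1 := by
    have : y = d ^ (p.choose 2) * c ^ p * y := by simpa [mul_assoc] using hF2
    exact (mul_eq_right.mp this.symm)
  -- `c^p` is central, so `d^p = 1`
  have hcp : c ^ p = (d ^ (p.choose 2))⁻¹ := eq_inv_of_mul_eq_one_right hcd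
  have hcpx : Commute (c ^ p) x := by
    rw [hcp]
    exact ((hd x).pow_left _).inv_left
  have hF3 := class3_F3 h2 hd p
  have hdp : d ^ p = 1 := by
    have : c ^ p * x = d ^ p * (c ^ p * x) := by rw [← hcpx.eq] at hF3; rw [← mul_assoc]; exact hF3
    exact (mul_eq_right.mp this.symm)
  have hd2 : d ^ (p.choose 2) = 1 := by
    obtain ⟨k, hk⟩ := hp2
    rw [hk, pow_mul, hdp, one_pow]
  have hc1 : c ^ p = 1 := by rw [hcp, hd2, inv_one]
  have hF1 := class3_F1 h3' he p
  have hep : e ^ p = 1 := by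
    rw [hc1, mul_one, mul_one] at hF1
    exact (mul_eq_right.mp hF1.symm)
  rw [mul_pow_class3 h1 h2 h3' hd he p, hx, hy]
  obtain ⟨k2, hk2⟩ := hp2
  obtain ⟨k3, hk3⟩ := hp3
  obtain ⟨kS, hkS⟩ := hpS
  rw [hk2, hk3, hkS, pow_mul, pow_mul, pow_mul, hc1, hdp, hep]
  simp

end Cfsg.Agent.Lib.Lead
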