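import Mathlib
import Cfsg.Agent.Lib.Helper9.PGroupLemmas

set_option autoImplicit false

namespace Cfsg.Agent.Lib.Lead

/-- In a finite `p`-group, between normal subgroups `M < N` there is a normal subgroup `B` with
`M ≤ B ≤ N` and `|B| = p |M|`. -/
lemma exists_normal_between {R : Type*} [Group R] [Finite R] {p : ℕ} [hp : Fact p.Prime]
    (hR : IsPGroup p R) (M N : Subgroup R) [hMn : M.Normal] [hNn : N.Normal] (hMN : M < N) :
    ∃ B : Subgroup R, B.Normal ∧ M ≤ B ∧ B ≤ N ∧ Nat.card B = p * Nat.card M := by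
  have hpp := hp.out
  have hQ : IsPGroup p (R ⧸ M) := hR.to_quotient M
  have hsurj : Function.Surjective (QuotientGroup.mk' M) := QuotientGroup.mk'_surjective M
  have hNbar_n : (N.map (QuotientGroup.mk' M)).Normal := hNn.map _ hsurj
  have hNbar_ne : N.map (QuotientGroup.mk' M) ≠ ⊥ := by
    intro h
    rw [Subgroup.map_eq_bot_iff, QuotientGroup.ker_mk'] at h
    exact absurd (le_antisymm h hMN.le) hMN.ne'
  obtain ⟨w, hwN, hw1, hwZ⟩ :=
    Cfsg.Agent.Lib.Helper9.exists_ne_one_mem_center_of_normal hQ (N.map (QuotientGroup.mk' M)) hNbar_ne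
  -- a power of `w` of order `p`
  obtain ⟨k, hk⟩ := (IsPGroup.iff_orderOf.mp hQ) w
  have hk0 : k ≠ 0 := by
    rintro rfl
    rw [pow_zero, orderOf_eq_one_iff] at hk
    exact hw1 hk
  set w' := w ^ (p ^ (k - 1)) with hw'
  have hw'ord : orderOf w' = p := by
    rw [hw', orderOf_pow' _ (pow_ne_zero _ hpp.ne_zero), hk]
    have : Nat.gcd (p ^ k) (p ^ (k - 1)) = p ^ (k - 1) :=
      Nat.gcd_eq_right (pow_dvd_pow p (Nat.sub_le k 1))
    rw [this]
    obtain ⟨j, rfl⟩ := Nat.exists_eq_succ_of_ne_zero hk0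
    simp only [Nat.succ_sub_one, Nat.succ_eq_add_one]
    rw [pow_succ, Nat.mul_div_cancel_left _ (pow_pos hpp.pos j)]
  have hw'N : w' ∈ N.map (QuotientGroup.mk' M) := pow_mem hwN _
  have hw'Z : w' ∈ Subgroup.center (R ⧸ M) := pow_mem hwZ _
  have hHn : (Subgroup.zpowers w').Normal := by
    constructor
    intro n hn x
    obtain ⟨j, rfl⟩ := Subgroup.mem_zpowers_iff.mp hn
    have hc : x * w' ^ j = w' ^ j * x := (Subgroup.mem_center_iff.mp (zpow_mem hw'Z j) x)
    rw [hc]
    simp
  refine ⟨(Subgroup.zpowers w').comap (QuotientGroup.mk' M), hHn.comap _, ?_, ?_, ?_⟩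
  · intro x hx
    rw [Subgroup.mem_comap]
    have : QuotientGroup.mk' M x = 1 := (QuotientGroup.eq_one_iff x).mpr hx
    rw [this]
    exact one_mem _
  · intro x hx
    rw [Subgroup.mem_comap] at hx
    have hx' : QuotientGroup.mk' M x ∈ N.map (QuotientGroup.mk' M) :=
      (Subgroup.zpowers_le.mpr hw'N) hx
    obtain ⟨n, hn, hnx⟩ := hx'
    have : n⁻¹ * x ∈ M := by
      rw [← QuotientGroup.eq_one_iff, QuotientGroup.mk_mul, QuotientGroup.mk_inv]
      have : (n : R ⧸ M) = (x : R ⧸ M) := hnx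
      rw [this, inv_mul_cancel]
    have h2 : x = n * (n⁻¹ * x) := by group
    rw [h2]
    exact mul_mem hn (hMN.le this)
  · have h1 := Subgroup.index_comap_of_surjective (Subgroup.zpowers w') hsurj
    have h2 := ((Subgroup.zpowers w').comap (QuotientGroup.mk' M)).card_mul_index
    have h3 := (Subgroup.zpowers w').card_mul_index
    have h4 := Subgroup.card_eq_card_quotient_mul_card_subgroup M
    rw [h1] at h2
    rw [Nat.card_zpowers, hw'ord] at h3
    have hidx : 0 < (Subgroup.zpowers w').index := Nat.pos_of_ne_zero Subgroup.index_ne_zero_of_finite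
    have : Nat.card ((Subgroup.zpowers w').comap (QuotientGroup.mk' M)) * (Subgroup.zpowers w').index =
        (p * Nat.card M) * (Subgroup.zpowers w').index := by
      rw [h2, h4, ← h3]; ring
    exact Nat.eq_of_mul_eq_mul_right hidx this

end Cfsg.Agent.Lib.Lead
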