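import Mathlib
import Cfsg.Agent.Lib.Lead.Class3
import Cfsg.Agent.Lib.Helper24.PGroupBasic
import Cfsg.Agent.S0130

set_option autoImplicit false
open scoped commutatorElement

namespace Cfsg.Agent.Lib.Lead

/-- For an odd prime `p`: if `k ^ p ≡ 1 mod p ^ m` with `1 ≤ m`, then `k ≡ 1 mod p ^ (m - 1)` and
`k ≡ 1 mod p`. Stated for `k = d + 1`. -/
lemma dvd_of_pow_prime_sub_one {p : ℕ} [hp : Fact p.Prime] (hp2 : p ≠ 2) {m d : ℕ} (hm : 1 ≤ m)
    (h : p ^ m ∣ (d + 1) ^ p - 1) : p ∣ d ∧ p ^ (m - 1) ∣ d := by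
  have hpp := hp.out
  have hodd : Odd p := hpp.odd_of_ne_two hp2
  rcases Nat.eq_zero_or_pos d with rfl | hd
  · exact ⟨dvd_zero _, dvd_zero _⟩
  have hpd1 : p ∣ (d + 1) ^ p - 1 := dvd_trans (dvd_pow_self p (by omega)) h
  have hge : 1 ≤ (d + 1) ^ p := Nat.one_le_pow _ _ (by omega)
  -- Fermat
  have hpd : p ∣ d := by
    have h1 : (((d + 1) ^ p : ℕ) : ZMod p) = 1 := by
      have := (ZMod.natCast_eq_zero_iff ((d + 1) ^ p - 1) p).mpr hpd1
      rw [Nat.cast_sub hge, sub_eq_zero] at this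
      simpa using this
    rw [Nat.cast_pow, ZMod.pow_card] at h1
    have h2 : ((d : ℕ) : ZMod p) = 0 := by
      have : ((d + 1 : ℕ) : ZMod p) = 1 := h1
      rw [Nat.cast_add, Nat.cast_one] at this
      simpa using this
    exact (ZMod.natCast_eq_zero_iff d p).mp h2
  refine ⟨hpd, ?_⟩
  have hnd : ¬ p ∣ d + 1 := by
    intro h'
    have : p ∣ 1 := (Nat.dvd_add_right hpd).mp h'
    exact hpp.one_lt.ne' (Nat.dvd_one.mp this)
  have hlte := padicValNat.pow_sub_pow (p := p) hodd (x := d + 1) (y := 1) (by omega)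
    (by simpa using hpd) hnd (n := p) hpp.ne_zero
  rw [one_pow, padicValNat_self, Nat.add_sub_cancel] at hlte
  have hne : (d + 1) ^ p - 1 ≠ 0 := by
    have : 1 < (d + 1) ^ p := Nat.one_lt_pow hpp.ne_zero (by omega)
    omega
  have h3 := (padicValNat_dvd_iff_le hne).mp h
  rw [hlte] at h3
  exact (padicValNat_dvd_iff_le hd.ne').mpr (by omega)

/-- conjugation by powers. -/
lemma conj_pow_pow {R : Type*} [Group R] {a b : R} {k : ℕ} (h : b * a * b⁻¹ = a ^ k) (j : ℕ) :
    b ^ j * a * (b ^ j)⁻¹ = a ^ (k ^ j) := by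
  induction j with
  | zero => simp
  | succ j ih =>
    calc b ^ (j + 1) * a * (b ^ (j + 1))⁻¹ = b * (b ^ j * a * (b ^ j)⁻¹) * b⁻¹ := by
          rw [pow_succ']; group
      _ = b * (a ^ (k ^ j)) * b⁻¹ := by rw [ih]
      _ = (b * a * b⁻¹) ^ (k ^ j) := by rw [conj_pow]
      _ = a ^ (k ^ (j + 1)) := by rw [h, ← pow_mul, pow_succ']

/-- The key structural fact: in a finite `p`-group (`p` odd) with a cyclic subgroup of index `p`,
the commutator `⁅b, a⁆` of a generator `a` of that subgroup with any `b` is central in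
`closure {a, b}`-terms: it commutes with `a` and `b` and has order dividing `p`. -/
lemma cyclic_max_comm {R : Type*} [Group R] [Finite R] {p : ℕ} [hp : Fact p.Prime] (hp2 : p ≠ 2)
    (hR : IsPGroup p R) (a b : R) (hn : (Subgroup.zpowers a).Normal)
    (hi : (Subgroup.zpowers a).index = p) :
    Commute ⁅b, a⁆ a ∧ Commute ⁅b, a⁆ b ∧ ⁅b, a⁆ ^ p = 1 := by
  have hpp := hp.out
  -- `b a b⁻¹ = a ^ k`
  have hconj : b * a * b⁻¹ ∈ Subgroup.zpowers a := hn.conj_mem a (Subgroup.mem_zpowers a) b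
  have hfin : IsOfFinOrder a := isOfFinOrder_of_finite a
  rw [← hfin.mem_powers_iff_mem_zpowers, Submonoid.mem_powers_iff] at hconj
  obtain ⟨k, hk⟩ := hconj
  -- order of `a`
  obtain ⟨m, hm⟩ : ∃ m, orderOf a = p ^ m := by
    obtain ⟨m, hm⟩ := (IsPGroup.iff_orderOf.mp hR) a
    exact ⟨m, hm⟩
  -- b ^ p ∈ zpowers a
  have hbp : b ^ p ∈ Subgroup.zpowers a :=
    (Cfsg.Agent.Lib.Helper24.comm_mem_and_pow_mem_of_index_prime p (Subgroup.zpowers a) hi b b).2
  have hbpc : b ^ p * a * (b ^ p)⁻¹ = a := by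
    obtain ⟨t, ht⟩ := Subgroup.mem_zpowers_iff.mp hbp
    rw [← ht]
    have : Commute (a ^ t) a := (Commute.refl a).zpow_left t
    rw [this.eq]; group
  have hkp : a ^ (k ^ p) = a := by rw [← conj_pow_pow hk.symm p]; exact hbpc
  have hc : ⁅b, a⁆ = a ^ k * a⁻¹ := by rw [commutatorElement_def, ← hk]
  rcases Nat.eq_zero_or_pos m with rfl | hm1
  · -- `a = 1`
    rw [pow_zero, orderOf_eq_one_iff] at hm
    subst hm
    simp
  have ha1 : a ≠ 1 := by
    intro h
    rw [h, orderOf_one] at hm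
    have : 1 < p ^ m := Nat.one_lt_pow hm1.ne' hpp.one_lt
    omega
  have hk0 : k ≠ 0 := by
    rintro rfl
    rw [pow_zero] at hk
    apply ha1
    have : a = b⁻¹ * (b * a * b⁻¹) * b := by group
    rw [this, ← hk]; group
  obtain ⟨d, rfl⟩ : ∃ d, k = d + 1 := ⟨k - 1, by omega⟩
  have hge : 1 ≤ (d + 1) ^ p := Nat.one_le_pow _ _ (by omega)
  have hdvd : p ^ m ∣ (d + 1) ^ p - 1 := by
    rw [← hm]
    apply orderOf_dvd_of_pow_eq_one
    have : a ^ ((d + 1) ^ p - 1) * a = a := by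
      rw [← pow_succ, Nat.sub_add_cancel hge, hkp]
    exact mul_eq_right.mp this
  obtain ⟨hpd, hpmd⟩ := dvd_of_pow_prime_sub_one hp2 hm1 hdvd
  have hc' : ⁅b, a⁆ = a ^ d := by rw [hc, pow_succ, mul_inv_cancel_right]
  have hca : Commute ⁅b, a⁆ a := by rw [hc']; exact (Commute.refl a).pow_left d
  have hcp : ⁅b, a⁆ ^ p = 1 := by
    rw [hc', ← pow_mul]
    apply orderOf_dvd_iff_pow_eq_one.mp
    rw [hm]
    obtain ⟨e, he⟩ := hpmd
    rw [he]
    have : p ^ m = p ^ (m - 1) * p := by rw [← pow_succ]; congr 1; omega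
    rw [this]
    exact ⟨e, by ring⟩
  refine ⟨hca, ?_, hcp⟩
  have hdd : a ^ (d * d) = 1 := by
    apply orderOf_dvd_iff_pow_eq_one.mp
    rw [hm]
    have : p ^ m = p ^ (m - 1) * p := by rw [← pow_succ]; congr 1; omega
    rw [this]
    exact Nat.mul_dvd_mul hpmd hpd
  have hbc : b * ⁅b, a⁆ * b⁻¹ = ⁅b, a⁆ := by
    rw [hc', ← conj_pow, ← hk, ← pow_mul]
    have : (d + 1) * d = d * d + d := by ring
    rw [this, pow_add, hdd, one_mul]
  have : ⁅b, a⁆ * b = b * ⁅b, a⁆ := by
    have h2 : b * ⁅b, a⁆ = (b * ⁅b, a⁆ * b⁻¹) * b := by group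
    rw [h2, hbc]
  exact this

/-- In a finite `p`-group (`p` odd) with a cyclic subgroup of index `p`, all commutators are central
of order dividing `p`. -/
lemma cyclic_max_commutators {R : Type*} [Group R] [Finite R] {p : ℕ} [hp : Fact p.Prime]
    (hp2 : p ≠ 2) (hR : IsPGroup p R) (C : Subgroup R) (hC : IsCyclic C) (hCi : C.index = p)
    (u v : R) : (∀ g, Commute ⁅v, u⁆ g) ∧ ⁅v, u⁆ ^ p = 1 := by
  have hpp := hp.out
  -- `C` is normal
  have hCn : C.Normal := by
    apply Subgroup.normal_of_index_eq_minFac_card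
    obtain ⟨n, hn⟩ := hR.exists_card_eq
    have hn0 : n ≠ 0 := by
      rintro rfl
      have h1 := C.card_mul_index
      rw [hn, pow_zero, hCi] at h1
      have : p ∣ 1 := Dvd.intro_left _ h1
      exact hpp.one_lt.ne' (Nat.dvd_one.mp this)
    rw [hCi, hn, Nat.Prime.pow_minFac hpp hn0]
  -- generator
  obtain ⟨g, hg⟩ := hC.exists_generator
  have hCa : Subgroup.zpowers (g : R) = C := by
    apply le_antisymm
    · rw [Subgroup.zpowers_le]; exact g.2
    · intro x hx
      obtain ⟨j, hj⟩ := Subgroup.mem_zpowers_iff.mp (hg ⟨x, hx⟩)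
      refine Subgroup.mem_zpowers_iff.mpr ⟨j, ?_⟩
      have := congrArg Subtype.val hj
      simpa using this
  set a : R := (g : R) with ha
  have hCn' : (Subgroup.zpowers a).Normal := hCa ▸ hCn
  have hCi' : (Subgroup.zpowers a).index = p := hCa ▸ hCi
  clear hCn hCi hg hCa
  have hCn := hCn'
  have hCi := hCi'
  -- `b ∉ C`
  obtain ⟨b, hb⟩ : ∃ b : R, b ∉ Subgroup.zpowers a := by
    by_contra hcon
    push Not at hcon
    have : Subgroup.zpowers a = ⊤ := (Subgroup.eq_top_iff' _).mpr hcon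
    rw [this, Subgroup.index_top] at hCi
    exact hpp.one_lt.ne' hCi.symm
  obtain ⟨hca, hcb, hcp⟩ := cyclic_max_comm hp2 hR a b hCn hCi
  -- generation
  have hgen : Subgroup.closure ({a, b} : Set R) = ⊤ := by
    have hle : Subgroup.zpowers a ≤ Subgroup.closure ({a, b} : Set R) := by
      rw [Subgroup.zpowers_le]; exact Subgroup.subset_closure (by simp)
    have hbH : b ∈ Subgroup.closure ({a, b} : Set R) := Subgroup.subset_closure (by simp)
    have hdvd := Subgroup.index_dvd_of_le hle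
    rw [hCi] at hdvd
    rcases (Nat.dvd_prime hpp).mp hdvd with h1 | h1
    · exact Subgroup.index_eq_one.mp h1
    · exfalso
      have e1 := (Subgroup.zpowers a).card_mul_index
      have e2 := (Subgroup.closure ({a, b} : Set R)).card_mul_index
      rw [hCi] at e1
      rw [h1, ← e1] at e2
      have e3 : Nat.card (Subgroup.closure ({a, b} : Set R)) = Nat.card (Subgroup.zpowers a) :=
        Nat.eq_of_mul_eq_mul_right hpp.pos e2
      have := Subgroup.eq_of_le_of_card_ge hle e3.le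
      exact hb (this ▸ hbH)
  -- `c` central
  have hcen : ∀ x : R, Commute ⁅b, a⁆ x := by
    intro x
    have hx : x ∈ Subgroup.closure ({a, b} : Set R) := hgen ▸ Subgroup.mem_top x
    have hle : Subgroup.closure ({a, b} : Set R) ≤ Subgroup.centralizer {⁅b, a⁆} := by
      rw [Subgroup.closure_le]
      rintro y (rfl | rfl)
      · exact Subgroup.mem_centralizer_singleton_iff.mpr hca.eq.symm
      · exact Subgroup.mem_centralizer_singleton_iff.mpr hcb.eq.symm
    exact (Subgroup.mem_centralizer_singleton_iff.mp (hle hx)).symm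
  have hNn : (Subgroup.zpowers ⁅b, a⁆).Normal := by
    constructor
    intro n hn x
    obtain ⟨j, rfl⟩ := Subgroup.mem_zpowers_iff.mp hn
    have : Commute (⁅b, a⁆ ^ j) x := (hcen x).zpow_left j
    rw [← this.eq]
    simp
  have hmem : ⁅v, u⁆ ∈ Subgroup.zpowers ⁅b, a⁆ := by
    apply Cfsg.Agent.S0130.commutator_mem_of_closure (S := {a, b}) (T := {a, b})
    · intro s hs t ht
      simp only [Set.mem_insert_iff, Set.mem_singleton_iff] at hs ht
      rcases hs with hs | hs <;> rcases ht with ht | ht <;> rw [hs, ht]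
      · simp
      · rw [← commutatorElement_inv b a]; exact inv_mem (Subgroup.mem_zpowers _)
      · exact Subgroup.mem_zpowers _
      · simp
    · exact hgen ▸ Subgroup.mem_top v
    · exact hgen ▸ Subgroup.mem_top u
  obtain ⟨j, hj⟩ := Subgroup.mem_zpowers_iff.mp hmem
  rw [← hj]
  refine ⟨fun x => (hcen x).zpow_left j, ?_⟩
  rw [← zpow_natCast, ← zpow_mul, mul_comm, zpow_mul, zpow_natCast, hcp, one_zpow]

/-- In a finite `p`-group (`p` odd) with a cyclic subgroup of index `p`, the `p`-th power map is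
multiplicative. -/
lemma mul_pow_prime_of_cyclic_max {R : Type*} [Group R] [Finite R] {p : ℕ} [hp : Fact p.Prime]
    (hp2 : p ≠ 2) (hR : IsPGroup p R) (C : Subgroup R) (hC : IsCyclic C) (hCi : C.index = p)
    (u v : R) : (u * v) ^ p = u ^ p * v ^ p := by
  have hpp := hp.out
  obtain ⟨hc, hcp⟩ := cyclic_max_commutators hp2 hR C hC hCi u v
  have h1 : v * u = ⁅v, u⁆ * u * v := by rw [commutatorElement_def]; group
  rw [mul_pow_class2 h1 (hc u) (hc v) p]
  have hp2' : p ∣ p.choose 2 := hpp.dvd_choose_self (by norm_num) (by have := hpp.two_le; omega)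
  obtain ⟨k, hk⟩ := hp2'
  rw [hk, pow_mul, hcp, one_pow, mul_one]

end Cfsg.Agent.Lib.Lead
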